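import Cfsg.Agent.Lib.Helper15.Clifford2
import Cfsg.Agent.Lib.Helper78.ClassAlg
import Cfsg.Agent.Lib.Helper3.Table

/-!
# Clifford theory: inertia groups, orbit sizes and `p`-parts of degrees (helper79)
-/

set_option autoImplicit false

namespace Cfsg.Agent.Lib.Helper79

open Cfsg Cfsg.Agent.Lib.Helper15 Cfsg.Agent.Lib.Helper78
open scoped ComplexConjugate

variable {G : Type*} [Group G] (N : Subgroup G) [hN : N.Normal]

/-- The inertia group of a function on a normal subgroup. -/
def inertia (θ : N → ℂ) : Subgroup G where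
  carrier := {g | cj N g θ = θ}
  mul_mem' := by
    intro a b ha hb
    change cj N (a * b) θ = θ
    rw [← cj_cj, (ha : cj N a θ = θ)]
    exact hb
  one_mem' := cj_one N θ
  inv_mem' := by
    intro a ha
    change cj N a⁻¹ θ = θ
    conv_lhs => rw [← (ha : cj N a θ = θ)]
    exact cj_inv_cj N a θ

theorem mem_inertia {θ : N → ℂ} {g : G} : g ∈ inertia N θ ↔ cj N g θ = θ := Iff.rfl

theorem le_inertia {θ : N → ℂ} (hθ : IsClassFunction N θ) : N ≤ inertia N θ :=
  fun _ hg => cj_of_mem N hg hθ

variable [Fintype G]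

/-- Orbit–stabiliser for the conjugation action on functions on `N`. -/
theorem card_orbit_mul_card_inertia [DecidableEq (N → ℂ)] (θ : N → ℂ) :
    (Finset.univ.image (fun g : G => cj N g θ)).card * Nat.card (inertia N θ) = Nat.card G := by
  have := Fintype.ofFinite (inertia N θ)
  have h1 := Finset.card_eq_sum_card_fiberwise (s := (Finset.univ : Finset G))
    (t := Finset.univ.image (fun g : G => cj N g θ)) (f := fun g : G => cj N g θ)
    (fun g _ => Finset.mem_coe.2 (Finset.mem_image_of_mem _ (Finset.mem_univ g)))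
  have h2 : ∀ φ ∈ Finset.univ.image (fun g : G => cj N g θ),
      (Finset.univ.filter (fun g : G => cj N g θ = φ)).card = Nat.card (inertia N θ) := by
    intro φ hφ
    obtain ⟨g0, -, rfl⟩ := Finset.mem_image.1 hφ
    rw [Nat.card_eq_fintype_card, ← Fintype.card_coe]
    apply Fintype.card_congr
    refine ⟨fun g => ⟨g.1 * g0⁻¹, ?_⟩, fun t => ⟨t.1 * g0, ?_⟩, ?_, ?_⟩
    · have hg := (Finset.mem_filter.1 g.2).2
      change cj N (g.1 * g0⁻¹) θ = θ
      rw [← cj_cj, hg, cj_inv_cj]
    · rw [Finset.mem_filter]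
      refine ⟨Finset.mem_univ _, ?_⟩
      rw [← cj_cj, (t.2 : cj N t.1 θ = θ)]
    · intro g; apply Subtype.ext; simp
    · intro t; apply Subtype.ext; simp
  rw [Finset.sum_congr rfl h2, Finset.sum_const, smul_eq_mul, Finset.card_univ,
    ← Nat.card_eq_fintype_card] at h1
  exact h1.symm

variable [Fintype N]

/-- Clifford: the degree of `χ` over `θ`. -/
theorem degree_eq_of_over [DecidableEq (N → ℂ)] {χ : G → ℂ} (hχ : IsIrrCharacter G χ) {θ : N → ℂ}
    (hθ : IsIrrCharacter N θ) (h1 : classInner (fun n : N => χ n) θ ≠ 0) :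
    χ 1 = classInner (fun n : N => χ n) θ *
      (((Finset.univ.image (fun g : G => cj N g θ)).card : ℂ) * θ 1) := by
  have h := congrFun (clifford_theorem N hχ hθ h1) 1
  simp only [Pi.smul_apply, Finset.sum_apply, smul_eq_mul, Subgroup.coe_one] at h
  rw [h]
  congr 1
  rw [Finset.sum_congr rfl (g := fun _ => θ 1)]
  · rw [Finset.sum_const, nsmul_eq_mul]
  · intro φ hφ
    obtain ⟨g, -, rfl⟩ := Finset.mem_image.1 hφ
    exact cj_apply_one N g θ

/-- `∑ [χ_N, θ]^2 = |I_G(θ) : N|`. -/
theorem sum_sq_mult {θ : N → ℂ} (hθ : IsIrrCharacter N θ) :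
    ∑ χ : IrrCharacter G, classInner (fun n : N => (χ : G → ℂ) n) θ ^ 2
      = (Nat.card N : ℂ)⁻¹ * (Nat.card (inertia N θ) : ℂ) := by
  have h1 := norm_indFun_normal N hθ
  have h2 := Cfsg.Agent.Lib.Helper3.classInner_eq_sum_coeff (a := indFun N θ) (b := indFun N θ)
    (indFun_isClassFunction N θ)
  have h3 : Nat.card {g : G // cj N g θ = θ} = Nat.card (inertia N θ) := rfl
  rw [← h3, ← h1, h2]
  refine Finset.sum_congr rfl fun χ _ => ?_
  have hcl := irr_isClassFunction χ
  have hchar : IsCharacter N (fun n : N => (χ : G → ℂ) n) :=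
    char_restrict (irr_char χ.2) N
  rw [← Cfsg.Agent.Lib.Helper3.classInner_conj_symm (indFun N θ) (χ : G → ℂ),
    classInner_indFun_left N θ _ hcl, inner_comm_of_char (irr_char hθ) hchar]
  obtain ⟨n, hn⟩ := inner_nat hchar (irr_char hθ)
  rw [hn, Complex.conj_natCast]; ring

/-- natural number version of `degree_eq_of_over`. -/
theorem charDegree_eq_of_over [DecidableEq (N → ℂ)] (χ : IrrCharacter G) (θ : IrrCharacter N) {m : ℕ}
    (hm : classInner (fun n : N => (χ : G → ℂ) n) (θ : N → ℂ) = m) (hm0 : m ≠ 0) :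
    charDegree (χ : G → ℂ) = m * ((Finset.univ.image (fun g : G => cj N g (θ : N → ℂ))).card *
      charDegree (θ : N → ℂ)) := by
  have h := degree_eq_of_over N χ.2 θ.2 (by rw [hm]; exact_mod_cast hm0)
  rw [hm, irr_one_eq χ, irr_one_eq θ] at h
  exact_mod_cast h

/-- If all characters over `θ` have "relative defect zero", the inertia group of `θ` has `p'`-index
over `N`. -/
theorem factorization_card_inertia_eq {p : ℕ} (hp : p.Prime) (θ : IrrCharacter N)
    (h : ∀ χ : IrrCharacter G, classInner (fun n : N => (χ : G → ℂ) n) (θ : N → ℂ) ≠ 0 →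
      (Nat.card G).factorization p + (charDegree (θ : N → ℂ)).factorization p
        ≤ (charDegree (χ : G → ℂ)).factorization p + (Nat.card N).factorization p) :
    (Nat.card (inertia N (θ : N → ℂ))).factorization p = (Nat.card N).factorization p := by
  classical
  choose m hm using fun χ : IrrCharacter G =>
    inner_nat (char_restrict (irr_char χ.2) N) (irr_char θ.2)
  set o := (Finset.univ.image (fun g : G => cj N g (θ : N → ℂ))).card with ho
  set I := Nat.card (inertia N (θ : N → ℂ)) with hI
  have hoI : o * I = Nat.card G := card_orbit_mul_card_inertia N (θ : N → ℂ)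
  have hI0 : I ≠ 0 := Nat.card_pos.ne'
  have ho0 : o ≠ 0 := by
    intro h0
    rw [h0, zero_mul] at hoI
    exact Nat.card_pos.ne' hoI.symm
  obtain ⟨w, hw⟩ : Nat.card N ∣ I :=
    Subgroup.card_dvd_of_le (le_inertia N (irr_isClassFunction θ))
  have hN0 : Nat.card N ≠ 0 := Nat.card_pos.ne'
  have hw0 : w ≠ 0 := by
    rintro rfl
    exact hI0 (by rw [hw, mul_zero])
  have hsum : ∑ χ : IrrCharacter G, (m χ) ^ 2 = w := by
    have h1 := sum_sq_mult (G := G) N θ.2
    simp_rw [hm] at h1
    rw [← hI, hw] at h1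
    have hNc : (Nat.card N : ℂ) ≠ 0 := by exact_mod_cast hN0
    push_cast at h1
    rw [inv_mul_cancel_left₀ hNc] at h1
    exact_mod_cast h1
  have hνI : I.factorization p = (Nat.card N).factorization p + w.factorization p := by
    rw [hw, Nat.factorization_mul hN0 hw0]; rfl
  have hνG : (Nat.card G).factorization p = o.factorization p + I.factorization p := by
    rw [← hoI, Nat.factorization_mul ho0 hI0]; rfl
  have hdvd : ∀ χ : IrrCharacter G, p ^ w.factorization p ∣ m χ := by
    intro χ
    by_cases h0 : m χ = 0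
    · rw [h0]; exact dvd_zero _
    · rw [hp.pow_dvd_iff_le_factorization h0]
      have h1 := h χ (by rw [hm]; exact_mod_cast h0)
      have h2 := charDegree_eq_of_over N χ θ (hm χ) h0
      have hθ0 : charDegree (θ : N → ℂ) ≠ 0 := (irr_charDegree_pos θ).ne'
      rw [h2, Nat.factorization_mul h0 (mul_ne_zero ho0 hθ0), Nat.factorization_mul ho0 hθ0] at h1
      simp only [Finsupp.add_apply] at h1
      omega
  have h2 : p ^ (2 * w.factorization p) ∣ w := by
    conv_rhs => rw [← hsum]
    apply Finset.dvd_sum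
    intro χ _
    rw [mul_comm, pow_mul]
    exact pow_dvd_pow_of_dvd (hdvd χ) 2
  rw [hp.pow_dvd_iff_le_factorization hw0] at h2
  omega

/-- Lower bound for the `p`-part of the degree of a character over `ξ`. -/
theorem le_factorization_of_over {p : ℕ} (χ : IrrCharacter G) (ξ : IrrCharacter N)
    (h1 : classInner (fun n : N => (χ : G → ℂ) n) (ξ : N → ℂ) ≠ 0)
    (hI : (Nat.card (inertia N (ξ : N → ℂ))).factorization p ≤ (Nat.card N).factorization p) :
    (Nat.card G).factorization p + (charDegree (ξ : N → ℂ)).factorization p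
      ≤ (charDegree (χ : G → ℂ)).factorization p + (Nat.card N).factorization p := by
  classical
  obtain ⟨m, hm⟩ := inner_nat (char_restrict (irr_char χ.2) N) (irr_char ξ.2)
  have hm0 : m ≠ 0 := by
    rintro rfl
    apply h1
    rw [hm]; simp
  set o := (Finset.univ.image (fun g : G => cj N g (ξ : N → ℂ))).card with ho
  have hoI : o * Nat.card (inertia N (ξ : N → ℂ)) = Nat.card G :=
    card_orbit_mul_card_inertia N (ξ : N → ℂ)
  have hI0 : Nat.card (inertia N (ξ : N → ℂ)) ≠ 0 := Nat.card_pos.ne'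
  have ho0 : o ≠ 0 := by
    intro h0
    rw [h0, zero_mul] at hoI
    exact Nat.card_pos.ne' hoI.symm
  have hξ0 : charDegree (ξ : N → ℂ) ≠ 0 := (irr_charDegree_pos ξ).ne'
  rw [charDegree_eq_of_over N χ ξ hm hm0, ← hoI, Nat.factorization_mul ho0 hI0,
    Nat.factorization_mul hm0 (mul_ne_zero ho0 hξ0), Nat.factorization_mul ho0 hξ0]
  simp only [Finsupp.add_apply]
  omega

end Cfsg.Agent.Lib.Helper79
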