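import Mathlib

/-!
# A combinatorial form of Osima's theorem

For an arbitrary weight `w : G → R` (`R` a commutative ring), a conjugation invariant set `S ⊆ G`
containing no `p ^ a`-th power, the sum over all `p ^ n`-tuples with ordered product in `S` of the
product of the weights is divisible by `p ^ (n + 1 - a)`.  Consequently an idempotent of the group
algebra (for convolution) has "trace" on a `p`-singular class divisible by all powers of `p`.
-/

set_option autoImplicit false

namespace Cfsg.Agent.Lib.Helper79

open Finset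

section Orbit

variable {C X R : Type*} [AddGroup C] [AddAction C X] [Fintype X] [CommRing R]

/-- Sum of an invariant weight, all of whose non-vanishing orbits have size divisible by `q`. -/
theorem dvd_sum_of_dvd_card_orbit (q : ℕ) (w : X → R) (hw : ∀ (c : C) (x : X), w (c +ᵥ x) = w x)
    (hq : ∀ x, w x = 0 ∨ q ∣ (AddAction.orbit C x).ncard) : (q : R) ∣ ∑ x, w x := by
  classical
  let s := AddAction.orbitRel C X
  have h1 : ∑ x, w x = ∑ o : Quotient s, ∑ x with (Quotient.mk s x) = o, w x :=
    (Finset.sum_fiberwise (s := Finset.univ) (g := fun x => Quotient.mk s x) (f := w)).symm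
  rw [h1]
  apply Finset.dvd_sum
  intro o _
  induction o using Quotient.inductionOn with
  | h x0 =>
    have h2 : ∀ x ∈ Finset.univ.filter (fun x => Quotient.mk s x = Quotient.mk s x0),
        w x = w x0 := by
      intro x hx
      have hx' : Quotient.mk s x = Quotient.mk s x0 := (Finset.mem_filter.1 hx).2
      have hx'' : x ∈ AddAction.orbit C x0 := by
        have := Quotient.exact hx'
        exact AddAction.orbitRel_apply.1 this
      obtain ⟨c, rfl⟩ := hx''
      exact hw c x0
    rw [Finset.sum_congr rfl h2, Finset.sum_const, nsmul_eq_mul]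
    rcases hq x0 with h0 | hd
    · rw [h0, mul_zero]; exact dvd_zero _
    · have hcard : (Finset.univ.filter (fun x => Quotient.mk s x = Quotient.mk s x0)).card
          = (AddAction.orbit C x0).ncard := by
        rw [Set.ncard_eq_toFinset_card']
        congr 1
        ext x
        simp only [Finset.mem_filter, Finset.mem_univ, true_and, Set.mem_toFinset]
        constructor
        · intro hx
          exact AddAction.orbitRel_apply.1 (Quotient.exact hx)
        · intro hx
          exact Quotient.sound (AddAction.orbitRel_apply.2 hx)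
      rw [hcard]
      obtain ⟨k, hk⟩ := hd
      rw [hk]
      push_cast
      exact ⟨(k : R) * w x0, by ring⟩

end Orbit

section OProd

variable {G : Type*} [Group G]

/-- The ordered product `f 0 * f 1 * ⋯ * f (k - 1)`. -/
def oprod (f : ℕ → G) (k : ℕ) : G := ((List.range k).map f).prod

theorem oprod_zero (f : ℕ → G) : oprod f 0 = 1 := by simp [oprod]

theorem oprod_succ (f : ℕ → G) (k : ℕ) : oprod f (k + 1) = oprod f k * f k :=
  List.prod_range_succ f k

theorem oprod_succ' (f : ℕ → G) (k : ℕ) :
    oprod f (k + 1) = f 0 * oprod (fun i => f (i + 1)) k :=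
  List.prod_range_succ' f k

theorem oprod_add (f : ℕ → G) (a b : ℕ) :
    oprod f (a + b) = oprod f a * oprod (fun i => f (a + i)) b := by
  induction b with
  | zero => simp [oprod_zero]
  | succ b ih => rw [← add_assoc, oprod_succ, ih, oprod_succ, mul_assoc]

theorem oprod_congr {f g : ℕ → G} {k : ℕ} (h : ∀ i < k, f i = g i) : oprod f k = oprod g k := by
  induction k with
  | zero => simp [oprod_zero]
  | succ k ih =>
    rw [oprod_succ, oprod_succ, ih (fun i hi => h i (Nat.lt_succ_of_lt hi)), h k (Nat.lt_succ_self k)]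

theorem oprod_mul_of_periodic (f : ℕ → G) (d e : ℕ) (h : ∀ i, f (i + d) = f i) :
    oprod f (d * e) = (oprod f d) ^ e := by
  induction e with
  | zero => simp [oprod_zero]
  | succ e ih =>
    have hper : ∀ (k i : ℕ), f (d * k + i) = f i := by
      intro k
      induction k with
      | zero => intro i; simp
      | succ k ihk =>
        intro i
        have : d * (k + 1) + i = (d * k + i) + d := by ring
        rw [this, h, ihk]
    rw [Nat.mul_succ, oprod_add, ih, pow_succ]
    congr 1
    exact oprod_congr (fun i _ => hper e i)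

end OProd

section Rot

variable {G : Type*} [Group G] {m : ℕ}

/-- The rotation action of `ZMod m` on `m`-tuples indexed by `ZMod m`. -/
@[reducible] def rotAction (G : Type*) (m : ℕ) : AddAction (ZMod m) (ZMod m → G) where
  vadd c y := fun i => y (i + c)
  zero_vadd y := by funext i; show y (i + 0) = y i; rw [add_zero]
  add_vadd c d y := by
    funext i
    show y (i + (c + d)) = y (i + c + d)
    rw [add_assoc]

/-- The ordered product of a tuple indexed by `ZMod m`. -/
def tprod (y : ZMod m → G) : G := oprod (fun i : ℕ => y (i : ZMod m)) m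

theorem tprod_rot_one (y : ZMod m → G) :
    tprod (fun i => y (i + 1)) = (y 0)⁻¹ * tprod y * y 0 := by
  have h1 := oprod_succ (fun i : ℕ => y (i : ZMod m)) m
  have h2 := oprod_succ' (fun i : ℕ => y (i : ZMod m)) m
  simp only [ZMod.natCast_self, Nat.cast_zero, Nat.cast_add, Nat.cast_one] at h1 h2
  unfold tprod
  rw [mul_assoc, ← h1, h2]
  simp

theorem tprod_mem_rot_natCast {S : Set G} (hS : ∀ g s : G, s ∈ S → g⁻¹ * s * g ∈ S)
    (k : ℕ) (y : ZMod m → G) :
    tprod (fun i => y (i + (k : ZMod m))) ∈ S ↔ tprod y ∈ S := by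
  have hone : ∀ z : ZMod m → G, tprod (fun i => z (i + 1)) ∈ S ↔ tprod z ∈ S := by
    intro z
    rw [tprod_rot_one]
    constructor
    · intro h
      have := hS (z 0)⁻¹ _ h
      simpa [mul_assoc] using this
    · intro h
      exact hS _ _ h
  induction k with
  | zero => simp
  | succ k ih =>
    have h3 := hone (fun i => y (i + (k : ZMod m)))
    have e : (fun i : ZMod m => y (i + ((k + 1 : ℕ) : ZMod m))) = fun i => y (i + 1 + (k : ZMod m)) := by
      funext i
      congr 1
      push_cast
      ring
    rw [e]
    exact h3.trans ih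

theorem tprod_mem_rot [NeZero m] {S : Set G} (hS : ∀ g s : G, s ∈ S → g⁻¹ * s * g ∈ S)
    (c : ZMod m) (y : ZMod m → G) :
    tprod (fun i => y (i + c)) ∈ S ↔ tprod y ∈ S := by
  have := tprod_mem_rot_natCast hS c.val y
  rwa [ZMod.natCast_zmod_val] at this

open Classical in
/-- **Main lemma.** -/
theorem dvd_sum_tuples {R : Type*} [CommRing R] [Fintype G] (p : ℕ) [hp : Fact p.Prime] (a n : ℕ)
    (S : Set G) (hS : ∀ g s : G, s ∈ S → g⁻¹ * s * g ∈ S) (hSa : ∀ z : G, z ^ (p ^ a) ∉ S)
    (w : G → R) :
    ((p ^ (n + 1 - a) : ℕ) : R) ∣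
      ∑ y : ZMod (p ^ n) → G, if tprod y ∈ S then ∏ c, w (y c) else 0 := by
  have : NeZero (p ^ n) := ⟨pow_ne_zero _ hp.out.ne_zero⟩
  let _ := rotAction G (p ^ n)
  apply dvd_sum_of_dvd_card_orbit (C := ZMod (p ^ n))
  · intro c y
    have h1 : tprod (c +ᵥ y) ∈ S ↔ tprod y ∈ S := tprod_mem_rot hS c y
    have h2 : ∏ i, w ((c +ᵥ y) i) = ∏ i, w (y i) :=
      Fintype.prod_equiv (Equiv.addRight c) _ _ (fun i => rfl)
    simp only [h1, h2]
  · intro y
    by_cases hy : tprod y ∈ S
    · right
      rw [← AddAction.index_stabilizer]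
      set H := AddAction.stabilizer (ZMod (p ^ n)) y with hH
      have hdvd : H.index ∣ p ^ n := by
        have := H.index_dvd_card
        rwa [Nat.card_zmod] at this
      obtain ⟨j, hj, hjH⟩ := (Nat.dvd_prime_pow hp.out).1 hdvd
      rw [hjH]
      apply pow_dvd_pow
      by_contra hlt
      push Not at hlt
      have hmem : H.index • (1 : ZMod (p ^ n)) ∈ H := H.nsmul_index_mem 1
      rw [hjH, hH, AddAction.mem_stabilizer_iff] at hmem
      have hper : ∀ i : ZMod (p ^ n), y (i + ((p ^ j : ℕ) : ZMod (p ^ n))) = y i := by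
        intro i
        have h3 := congrFun hmem i
        have h4 : (p ^ j • (1 : ZMod (p ^ n)) +ᵥ y) i = y (i + p ^ j • (1 : ZMod (p ^ n))) := rfl
        rw [h4] at h3
        simpa using h3
      have hn : p ^ n = p ^ j * p ^ (n - j) := by
        rw [← pow_add]; congr 1; omega
      have hprod : tprod y = (oprod (fun i : ℕ => y (i : ZMod (p ^ n))) (p ^ j)) ^ (p ^ (n - j)) := by
        unfold tprod
        have h5 : oprod (fun i : ℕ => y (i : ZMod (p ^ n))) (p ^ n)
            = oprod (fun i : ℕ => y (i : ZMod (p ^ n))) (p ^ j * p ^ (n - j)) :=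
          congrArg (oprod (fun i : ℕ => y (i : ZMod (p ^ n)))) hn
        rw [h5]
        apply oprod_mul_of_periodic
        intro i
        have := hper (i : ZMod (p ^ n))
        push_cast
        push_cast at this
        exact this
      have hsplit : p ^ (n - j) = p ^ (n - j - a) * p ^ a := by
        rw [← pow_add]; congr 1; omega
      rw [hprod, hsplit, pow_mul] at hy
      exact hSa _ hy
    · left
      simp [hy]

end Rot

section Conv

variable {G R : Type*} [Group G] [Fintype G] [CommRing R]

/-- Convolution of functions on a finite group (the product of the group algebra). -/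
def conv (u v : G → R) : G → R := fun g => ∑ h, u h * v (h⁻¹ * g)

open Classical in
/-- The unit for convolution. -/
noncomputable def convOne : G → R := fun g => if g = 1 then 1 else 0

/-- Convolution powers. -/
noncomputable def cpow (w : G → R) : ℕ → G → R
  | 0 => convOne
  | m + 1 => conv w (cpow w m)

theorem conv_convOne (u : G → R) : conv u convOne = u := by
  classical
  funext g
  unfold conv convOne
  rw [Finset.sum_eq_single g]
  · simp
  · intro h _ hne
    have : h⁻¹ * g ≠ 1 := by
      intro h1
      apply hne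
      have := inv_mul_eq_one.1 h1
      exact this
    simp [this]
  · simp

theorem cpow_of_idem {e : G → R} (he : conv e e = e) (m : ℕ) : cpow e (m + 1) = e := by
  induction m with
  | zero => exact conv_convOne e
  | succ m ih =>
    show conv e (cpow e (m + 1)) = e
    rw [ih, he]

open Classical in
theorem cpow_eq_sum (w : G → R) (m : ℕ) (g : G) :
    cpow w m g = ∑ x : Fin m → G, if (List.ofFn x).prod = g then ∏ i, w (x i) else 0 := by
  induction m generalizing g with
  | zero =>
    simp only [cpow, convOne, List.ofFn_zero, List.prod_nil, Finset.univ_eq_empty,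
      Finset.prod_empty, Finset.univ_unique, Finset.sum_singleton]
    by_cases h : g = 1
    · simp [h]
    · simp [h, Ne.symm h]
  | succ m ih =>
    show conv w (cpow w m) g = _
    unfold conv
    rw [← (Fin.consEquiv (fun _ : Fin (m + 1) => G)).sum_comp, Fintype.sum_prod_type]
    apply Finset.sum_congr rfl
    intro h _
    rw [ih, Finset.mul_sum]
    apply Finset.sum_congr rfl
    intro x _
    simp only [Fin.consEquiv_apply, List.ofFn_succ, Fin.cons_zero, Fin.cons_succ, List.prod_cons,
      Fin.prod_univ_succ]
    by_cases hx : (List.ofFn x).prod = h⁻¹ * g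
    · have : h * (List.ofFn x).prod = g := by rw [hx]; group
      simp [hx]
    · have : h * (List.ofFn x).prod ≠ g := by
        intro h1
        apply hx
        rw [← h1]; group
      simp [hx, this]

/-- Tuples indexed by `ZMod m` versus tuples indexed by `Fin m`. -/
def tupleEquiv (G : Type*) (m : ℕ) [NeZero m] : (ZMod m → G) ≃ (Fin m → G) where
  toFun y := fun i => y ((i : ℕ) : ZMod m)
  invFun x := fun c => x ⟨c.val, ZMod.val_lt c⟩
  left_inv y := by
    funext c
    simp
  right_inv x := by
    funext i
    have : (⟨((i : ℕ) : ZMod m).val, ZMod.val_lt _⟩ : Fin m) = i := by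
      apply Fin.ext
      simp [ZMod.val_natCast, Nat.mod_eq_of_lt i.2]
    show x ⟨((i : ℕ) : ZMod m).val, ZMod.val_lt _⟩ = x i
    rw [this]

omit [Fintype G] in
theorem ofFn_tupleEquiv_prod (m : ℕ) [NeZero m] (y : ZMod m → G) :
    (List.ofFn (tupleEquiv G m y)).prod = tprod y := by
  unfold tprod oprod tupleEquiv
  congr 1
  simp only [Equiv.coe_fn_mk]
  rw [List.ofFn_eq_map, ← List.map_coe_finRange_eq_range, List.map_map]
  rfl

omit [Group G] [Fintype G] in
theorem prod_tupleEquiv (m : ℕ) [NeZero m] (w : G → R) (y : ZMod m → G) :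
    ∏ i, w (tupleEquiv G m y i) = ∏ c, w (y c) := by
  refine Fintype.prod_bijective (fun i : Fin m => ((i : ℕ) : ZMod m)) ?_ _ _ (fun i => rfl)
  constructor
  · intro i j hij
    have := congrArg ZMod.val hij
    simp only [ZMod.val_natCast, Nat.mod_eq_of_lt i.2, Nat.mod_eq_of_lt j.2] at this
    exact Fin.ext this
  · intro c
    exact ⟨⟨c.val, ZMod.val_lt c⟩, by simp⟩

open Classical in
theorem sum_cpow_eq (w : G → R) (m : ℕ) [NeZero m] (S : Set G) :
    ∑ s, (if s ∈ S then cpow w m s else 0)
      = ∑ y : ZMod m → G, if tprod y ∈ S then ∏ c, w (y c) else 0 := by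
  rw [← (tupleEquiv G m).symm.sum_comp]
  simp only [cpow_eq_sum]
  have h1 : ∀ s : G, (if s ∈ S then ∑ x : Fin m → G,
      (if (List.ofFn x).prod = s then ∏ i, w (x i) else 0) else 0)
      = ∑ x : Fin m → G, if (List.ofFn x).prod = s then
          (if (List.ofFn x).prod ∈ S then ∏ i, w (x i) else 0) else 0 := by
    intro s
    by_cases hs : s ∈ S
    · rw [if_pos hs]
      apply Finset.sum_congr rfl
      intro x _
      by_cases hx : (List.ofFn x).prod = s
      · simp [hx, hs]
      · simp [hx]
    · rw [if_neg hs]
      symm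
      apply Finset.sum_eq_zero
      intro x _
      by_cases hx : (List.ofFn x).prod = s
      · simp [hx, hs]
      · simp [hx]
  simp only [h1]
  rw [Finset.sum_comm]
  apply Finset.sum_congr rfl
  intro x _
  rw [Finset.sum_ite_eq]
  simp only [Finset.mem_univ, if_true]
  have h2 := ofFn_tupleEquiv_prod m ((tupleEquiv G m).symm x)
  have h3 := prod_tupleEquiv m w ((tupleEquiv G m).symm x)
  rw [Equiv.apply_symm_apply] at h2 h3
  rw [h2, h3]

open Classical in
/-- **Trace of an idempotent.**  If `e` is an idempotent for convolution, `S` is a conjugation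
invariant set containing no `p ^ a`-th power, then `∑_{s ∈ S} e s` is divisible by every power
of `p`. -/
theorem dvd_sum_idempotent (p : ℕ) [hp : Fact p.Prime] (a : ℕ) (S : Set G)
    (hS : ∀ g s : G, s ∈ S → g⁻¹ * s * g ∈ S) (hSa : ∀ z : G, z ^ (p ^ a) ∉ S)
    {e : G → R} (he : conv e e = e) (k : ℕ) :
    ((p ^ k : ℕ) : R) ∣ ∑ s, (if s ∈ S then e s else 0) := by
  have hne : NeZero (p ^ (k + a)) := ⟨pow_ne_zero _ hp.out.ne_zero⟩
  obtain ⟨m, hm⟩ := Nat.exists_eq_succ_of_ne_zero hne.out
  have h1 : cpow e (p ^ (k + a)) = e := by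
    rw [hm]; exact cpow_of_idem he m
  have h2 := sum_cpow_eq e (p ^ (k + a)) S
  rw [h1] at h2
  rw [h2]
  have h3 := dvd_sum_tuples (R := R) p a (k + a) S hS hSa e
  have h4 : k + a + 1 - a = k + 1 := by omega
  rw [h4] at h3
  refine Dvd.dvd.trans ?_ h3
  rw [pow_succ]
  push_cast
  exact Dvd.intro _ rfl

end Conv

section PSingular

variable {G : Type*} [Group G] [Finite G]

theorem not_dvd_orderOf_pow_factorization (p : ℕ) [hp : Fact p.Prime] (z : G) :
    ¬ p ∣ orderOf (z ^ (p ^ ((Nat.card G).factorization p))) := by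
  intro h
  have hcard : Nat.card G ≠ 0 := Nat.card_pos.ne'
  have h1 : (z ^ (p ^ ((Nat.card G).factorization p))) ^ (Nat.card G / p ^ ((Nat.card G).factorization p)) = 1 := by
    rw [← pow_mul, Nat.ordProj_mul_ordCompl_eq_self]
    exact pow_card_eq_one'
  have h2 := orderOf_dvd_of_pow_eq_one h1
  exact Nat.not_dvd_ordCompl hp.out hcard (h.trans h2)

end PSingular

end Cfsg.Agent.Lib.Helper79
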