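import Cfsg.Agent.Lib.Helper79.LocalRing
import Cfsg.Agent.Lib.Helper79.Osima

/-!
# Idempotents of the group algebra over the local ring have trace zero on `p`-singular classes
-/

set_option autoImplicit false

namespace Cfsg.Agent.Lib.Helper79

open Cfsg

variable {M : Ideal AlgInt} {p : ℕ} {G : Type*} [Group G] [Fintype G]

open Classical in
/-- If `e : G → ℂ` is an idempotent for convolution with coefficients in the local ring at `M`
and `y` is `p`-singular, then the sum of the coefficients of `e` over the class of `y` vanishes. -/
theorem sum_conj_idempotent_eq_zero (hM : IsPModular p M) {e : G → ℂ}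
    (heO : ∀ g, MemLocalRing M (e g)) (he : conv e e = e) {y : G} (hy : p ∣ orderOf y) :
    ∑ s, (if IsConj y s then e s else 0) = 0 := by
  have hP := isPrime_of_isPModular hM
  have : Fact p.Prime := ⟨hM.1⟩
  apply eq_zero_of_forall_pow_dvd hM
  intro k
  let O := localSubring M hP
  let e' : G → O := fun g => ⟨e g, heO g⟩
  have he' : conv e' e' = e' := by
    funext g
    apply Subtype.ext
    have := congrFun he g
    simp only [conv] at this ⊢
    push_cast
    exact this
  have hdvd := dvd_sum_idempotent (R := O) p ((Nat.card G).factorization p) {s | IsConj y s}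
    (by
      intro g s hs
      have hs' : IsConj y s := hs
      have : IsConj s (g⁻¹ * s * g) := by
        rw [isConj_iff]
        exact ⟨g⁻¹, by simp⟩
      exact hs'.trans this)
    (by
      intro z hz
      have hz' : IsConj y (z ^ (p ^ ((Nat.card G).factorization p))) := hz
      obtain ⟨c, hc⟩ := isConj_iff.1 hz'
      have : orderOf (z ^ (p ^ ((Nat.card G).factorization p))) = orderOf y := by
        rw [← hc]
        exact orderOf_injective (MulAut.conj c).toMonoidHom (MulAut.conj c).injective y
      exact not_dvd_orderOf_pow_factorization p z (this ▸ hy))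
    he' k
  obtain ⟨r, hr⟩ := hdvd
  refine ⟨(r : ℂ), r.2, ?_⟩
  have := congrArg (fun t : O => (t : ℂ)) hr
  simp only [Set.mem_ofPred_eq] at this
  push_cast at this
  rw [← this]
  apply Finset.sum_congr rfl
  intro s _
  by_cases hs : IsConj y s
  · rw [if_pos hs, if_pos hs]
  · rw [if_neg hs, if_neg hs]; rfl

end Cfsg.Agent.Lib.Helper79
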